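import Mathlib

/-!
# The scheme of connected components: the case of a connected scheme (helper8)

`k` a field, `C` a connected `k`-scheme locally of finite type.  There is a finite separable field
extension `L / k` and a `k`-morphism `s : C ⟶ Spec L` through which every `k`-morphism from `C` to an
étale `k`-scheme factors (`exists_universal`).
-/

set_option autoImplicit false
universe u
open CategoryTheory CategoryTheory.Limits AlgebraicGeometry Topology TopologicalSpace TensorProduct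

namespace Groth.Agent.H8.Pi0

variable {k : Type u} [Field k]

theorem etale_of_finite_sep (S : Type u) [Field S] [Algebra k S] [Module.Finite k S]
    [Algebra.IsSeparable k S] : Algebra.Etale k S where
  formallyEtale := Algebra.FormallyEtale.of_isSeparable k S
  finitePresentation := Algebra.FinitePresentation.of_finiteType.mp inferInstance

section Pi

variable {I : Type u} [Finite I] (A : I → Type u) [∀ i, CommRing (A i)]

theorem isOpenImmersion_eval (i : I) :
    IsOpenImmersion (Spec.map (CommRingCat.ofHom (Pi.evalRingHom A i))) :=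
  inferInstance

theorem exists_mem_range_eval (z : Spec (CommRingCat.of (Π i, A i))) :
    ∃ i, z ∈ Set.range (Spec.map (CommRingCat.ofHom (Pi.evalRingHom A i))) := by
  obtain ⟨i, q, hq⟩ := PrimeSpectrum.exists_comap_evalRingHom_eq (R := A) z
  exact ⟨i, q, hq⟩

theorem range_eval_disjoint {i j : I} (hij : i ≠ j) (z : Spec (CommRingCat.of (Π i, A i)))
    (hi : z ∈ Set.range (Spec.map (CommRingCat.ofHom (Pi.evalRingHom A i))))
    (hj : z ∈ Set.range (Spec.map (CommRingCat.ofHom (Pi.evalRingHom A j)))) : False := by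
  classical
  obtain ⟨q, rfl⟩ := hi
  obtain ⟨q', hq'⟩ := hj
  have h1 : (Pi.single i 1 : Π i, A i) ∉
      (Spec.map (CommRingCat.ofHom (Pi.evalRingHom A i)) q).asIdeal := by
    show ¬ (Pi.evalRingHom A i (Pi.single i 1) ∈ q.asIdeal)
    rw [Pi.evalRingHom_apply, Pi.single_eq_same]
    exact (Ideal.ne_top_iff_one _).mp q.isPrime.ne_top
  have h2 : (Pi.single i 1 : Π i, A i) ∈
      (Spec.map (CommRingCat.ofHom (Pi.evalRingHom A j)) q').asIdeal := by
    show Pi.evalRingHom A j (Pi.single i 1) ∈ q'.asIdeal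
    rw [Pi.evalRingHom_apply, Pi.single_eq_of_ne hij.symm]
    exact zero_mem _
  rw [hq'] at h2
  exact h1 h2

theorem exists_factor_eval {C : Scheme.{u}} [ConnectedSpace C]
    (m : C ⟶ Spec (CommRingCat.of (Π i, A i))) :
    ∃ (i : I) (m' : C ⟶ Spec (CommRingCat.of (A i))),
      m' ≫ Spec.map (CommRingCat.ofHom (Pi.evalRingHom A i)) = m := by
  obtain ⟨x₀⟩ : Nonempty C := inferInstance
  obtain ⟨i₀, hi₀⟩ := exists_mem_range_eval A (m x₀)
  refine ⟨i₀, ?_⟩
  haveI := isOpenImmersion_eval A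
  have hVopen : ∀ i, IsOpen (Set.range (Spec.map (CommRingCat.ofHom (Pi.evalRingHom A i)))) :=
    fun i => (Spec.map (CommRingCat.ofHom (Pi.evalRingHom A i))).isOpenEmbedding.isOpen_range
  have hclopen : IsClopen (m ⁻¹' Set.range (Spec.map (CommRingCat.ofHom (Pi.evalRingHom A i₀)))) := by
    refine ⟨?_, (hVopen i₀).preimage m.continuous⟩
    rw [← isOpen_compl_iff]
    have : (m ⁻¹' Set.range (Spec.map (CommRingCat.ofHom (Pi.evalRingHom A i₀))))ᶜ =
        ⋃ j ∈ {j | j ≠ i₀},
          m ⁻¹' Set.range (Spec.map (CommRingCat.ofHom (Pi.evalRingHom A j))) := by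
      ext x
      simp only [Set.mem_compl_iff, Set.mem_preimage, Set.mem_iUnion, Set.mem_setOf_eq,
        exists_prop]
      constructor
      · intro hx
        obtain ⟨j, hj⟩ := exists_mem_range_eval A (m x)
        exact ⟨j, fun h => hx (h ▸ hj), hj⟩
      · rintro ⟨j, hj, hxj⟩ hx
        exact range_eval_disjoint A hj _ hxj hx
    rw [this]
    exact isOpen_biUnion fun j _ => (hVopen j).preimage m.continuous
  have huniv := hclopen.eq_univ ⟨x₀, hi₀⟩
  have hrange : Set.range m ⊆
      Set.range (Spec.map (CommRingCat.ofHom (Pi.evalRingHom A i₀))) := by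
    rintro _ ⟨x, rfl⟩
    have : x ∈ m ⁻¹' Set.range (Spec.map (CommRingCat.ofHom (Pi.evalRingHom A i₀))) :=
      huniv ▸ Set.mem_univ x
    exact this
  exact ⟨IsOpenImmersion.lift _ m hrange, IsOpenImmersion.lift_fac _ _ _⟩

end Pi

/-- a finite separable field extension `L / k` with a `k`-morphism `C ⟶ Spec L`. -/
structure SepPt (C : Scheme.{u}) (fC : C ⟶ Spec (CommRingCat.of k)) where
  /-- the field -/
  L : Type u
  [fld : Field L]
  [alg : Algebra k L]
  [fin : Module.Finite k L]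
  [sep : Algebra.IsSeparable k L]
  /-- the morphism -/
  s : C ⟶ Spec (CommRingCat.of L)
  hs : s ≫ Spec.map (CommRingCat.ofHom (algebraMap k L)) = fC

attribute [instance] SepPt.fld SepPt.alg SepPt.fin SepPt.sep

variable {C : Scheme.{u}} (fC : C ⟶ Spec (CommRingCat.of k))

theorem exists_bound [LocallyOfFiniteType fC] [Nonempty C] :
    ∃ d : ℕ, ∀ p : SepPt C fC, Module.finrank k p.L ≤ d := by
  obtain ⟨x⟩ := ‹Nonempty C›
  obtain ⟨B, j, hjo, ⟨z⟩⟩ : ∃ (B : CommRingCat.{u}) (j : Spec B ⟶ C), IsOpenImmersion j ∧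
      Nonempty (Spec B) := by
    obtain ⟨z, -⟩ := C.affineOpenCover.covers x
    exact ⟨_, C.affineOpenCover.f _, inferInstance, ⟨z⟩⟩
  haveI : Nontrivial B := PrimeSpectrum.nonempty_iff_nontrivial.mp ⟨z⟩
  obtain ⟨m, hm⟩ := Ideal.exists_maximal B
  obtain ⟨φ, hφ⟩ : ∃ φ : CommRingCat.of k ⟶ B, Spec.map φ = j ≫ fC :=
    ⟨Spec.preimage _, Spec.map_preimage _⟩
  have hft : φ.hom.FiniteType := by
    have : LocallyOfFiniteType (Spec.map φ) := by rw [hφ]; infer_instance
    exact (HasRingHomProperty.Spec_iff (P := @LocallyOfFiniteType)).mp this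
  letI : Algebra k B := φ.hom.toAlgebra
  haveI : Algebra.FiniteType k B := hft
  letI : Field (B ⧸ m) := Ideal.Quotient.field m
  haveI : Algebra.FiniteType k (B ⧸ m) :=
    Algebra.FiniteType.of_surjective (Ideal.Quotient.mkₐ k m) (Ideal.Quotient.mkₐ_surjective k m)
  haveI : Module.Finite k (B ⧸ m) := finite_of_finite_type_of_isJacobsonRing k (B ⧸ m)
  refine ⟨Module.finrank k (B ⧸ m), fun p => ?_⟩
  obtain ⟨pt, hpt⟩ : ∃ pt : Spec (CommRingCat.of (B ⧸ m)) ⟶ C,
      pt = Spec.map (CommRingCat.ofHom (Ideal.Quotient.mk m)) ≫ j := ⟨_, rfl⟩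
  obtain ⟨ψ, hψ⟩ : ∃ ψ : CommRingCat.of p.L ⟶ CommRingCat.of (B ⧸ m), Spec.map ψ = pt ≫ p.s :=
    ⟨Spec.preimage _, Spec.map_preimage _⟩
  have hcomm : ∀ r : k, ψ.hom (algebraMap k p.L r) = algebraMap k (B ⧸ m) r := by
    have h1 : CommRingCat.ofHom (algebraMap k p.L) ≫ ψ =
        CommRingCat.ofHom (algebraMap k (B ⧸ m)) := by
      apply Spec.map_injective
      rw [Spec.map_comp, hψ, Category.assoc, p.hs, hpt, Category.assoc, ← hφ, ← Spec.map_comp]
      rfl
    intro r
    exact congrArg (fun f => f.hom r) h1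
  let ψ' : p.L →ₐ[k] (B ⧸ m) := { ψ.hom with commutes' := hcomm }
  exact LinearMap.finrank_le_finrank_of_injective (f := ψ'.toLinearMap) ψ'.toRingHom.injective

/-- the trivial point `L = k`. -/
noncomputable def SepPt.triv : SepPt C fC where
  L := k
  s := fC
  hs := by
    have : CommRingCat.ofHom (algebraMap k k) = 𝟙 (CommRingCat.of k) := rfl
    rw [this, Spec.map_id, Category.comp_id]

theorem exists_max [LocallyOfFiniteType fC] [Nonempty C] :
    ∃ p : SepPt C fC, ∀ p' : SepPt C fC, Module.finrank k p'.L ≤ Module.finrank k p.L := by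
  obtain ⟨d, hd⟩ := exists_bound fC
  by_contra hcon
  push_neg at hcon
  have : ∀ n : ℕ, ∃ p : SepPt C fC, n ≤ Module.finrank k p.L := by
    intro n
    induction n with
    | zero => exact ⟨SepPt.triv fC, Nat.zero_le _⟩
    | succ n ih =>
      obtain ⟨p, hp⟩ := ih
      obtain ⟨p', hp'⟩ := hcon p
      exact ⟨p', by omega⟩
  obtain ⟨p, hp⟩ := this (d + 1)
  have := hd p
  omega

variable {fC}

theorem exists_join [ConnectedSpace C] (p p' : SepPt C fC) :
    ∃ (p'' : SepPt C fC) (ι : p.L →ₐ[k] p''.L) (ι' : p'.L →ₐ[k] p''.L),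
      p''.s ≫ Spec.map (CommRingCat.ofHom ι.toRingHom) = p.s ∧
      p''.s ≫ Spec.map (CommRingCat.ofHom ι'.toRingHom) = p'.s := by
  haveI : Algebra.Etale k p.L := etale_of_finite_sep p.L
  haveI : Algebra.Etale k p'.L := etale_of_finite_sep p'.L
  haveI : Algebra.Etale k (p.L ⊗[k] p'.L) := Algebra.Etale.comp k p.L (p.L ⊗[k] p'.L)
  obtain ⟨I, _, A, _, _, e, hA⟩ :=
    (Algebra.Etale.iff_exists_algEquiv_prod (K := k) (A := p.L ⊗[k] p'.L)).mp inferInstance
  obtain ⟨m, hm⟩ : ∃ m : C ⟶ Spec (CommRingCat.of (p.L ⊗[k] p'.L)),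
      m = pullback.lift p.s p'.s (p.hs.trans p'.hs.symm) ≫ (pullbackSpecIso k p.L p'.L).hom :=
    ⟨_, rfl⟩
  have hm1 : m ≫ Spec.map (CommRingCat.ofHom
      (Algebra.TensorProduct.includeLeftRingHom : p.L →+* p.L ⊗[k] p'.L)) = p.s := by
    rw [hm, Category.assoc, pullbackSpecIso_hom_fst, pullback.lift_fst]
  have hm2 : m ≫ Spec.map (CommRingCat.ofHom
      (Algebra.TensorProduct.includeRight : p'.L →ₐ[k] p.L ⊗[k] p'.L).toRingHom) = p'.s := by
    rw [hm, Category.assoc]
    exact (congrArg (fun t => pullback.lift p.s p'.s (p.hs.trans p'.hs.symm) ≫ t)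
      (pullbackSpecIso_hom_snd k p.L p'.L)).trans (pullback.lift_snd _ _ _)
  obtain ⟨i, m', hm'⟩ := exists_factor_eval A
    (m ≫ Spec.map (CommRingCat.ofHom e.symm.toAlgHom.toRingHom))
  haveI := (hA i).1
  haveI := (hA i).2
  -- the two algebra maps
  let ι : p.L →ₐ[k] A i :=
    (Pi.evalAlgHom k A i).comp (e.toAlgHom.comp Algebra.TensorProduct.includeLeft)
  let ι' : p'.L →ₐ[k] A i :=
    (Pi.evalAlgHom k A i).comp (e.toAlgHom.comp Algebra.TensorProduct.includeRight)
  have hback : m' ≫ Spec.map (CommRingCat.ofHom (Pi.evalRingHom A i)) ≫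
      Spec.map (CommRingCat.ofHom e.toAlgHom.toRingHom) = m := by
    rw [← Category.assoc, hm', Category.assoc, ← Spec.map_comp]
    have : CommRingCat.ofHom e.toAlgHom.toRingHom ≫ CommRingCat.ofHom e.symm.toAlgHom.toRingHom =
        𝟙 _ := by
      apply CommRingCat.hom_ext
      apply RingHom.ext
      intro x
      exact e.symm_apply_apply x
    rw [this, Spec.map_id, Category.comp_id]
  have hι : m' ≫ Spec.map (CommRingCat.ofHom ι.toRingHom) = p.s := by
    rw [← hm1, ← hback, Category.assoc, Category.assoc, ← Spec.map_comp, ← Spec.map_comp]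
    rfl
  have hι' : m' ≫ Spec.map (CommRingCat.ofHom ι'.toRingHom) = p'.s := by
    rw [← hm2, ← hback, Category.assoc, Category.assoc, ← Spec.map_comp, ← Spec.map_comp]
    rfl
  refine ⟨⟨A i, m', ?_⟩, ι, ι', hι, hι'⟩
  have h3 : CommRingCat.ofHom (algebraMap k (A i)) =
      CommRingCat.ofHom (algebraMap k p.L) ≫ CommRingCat.ofHom ι.toRingHom := by
    ext r
    exact (ι.commutes r).symm
  rw [h3, Spec.map_comp, ← Category.assoc, hι, p.hs]

theorem exists_hom_of_max [ConnectedSpace C] (p : SepPt C fC)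
    (hp : ∀ p' : SepPt C fC, Module.finrank k p'.L ≤ Module.finrank k p.L) (p' : SepPt C fC) :
    ∃ τ : p'.L →ₐ[k] p.L, p.s ≫ Spec.map (CommRingCat.ofHom τ.toRingHom) = p'.s := by
  obtain ⟨p'', ι, ι', hι, hι'⟩ := exists_join p p'
  have hinj : Function.Injective ι.toLinearMap := ι.toRingHom.injective
  have hle : Module.finrank k p.L ≤ Module.finrank k p''.L :=
    LinearMap.finrank_le_finrank_of_injective hinj
  have heq : Module.finrank k p.L = Module.finrank k p''.L := le_antisymm hle (hp p'')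
  have hsurj : Function.Surjective ι.toLinearMap :=
    (LinearMap.injective_iff_surjective_of_finrank_eq_finrank heq).mp hinj
  let ιe : p.L ≃ₐ[k] p''.L := AlgEquiv.ofBijective ι ⟨hinj, hsurj⟩
  refine ⟨ιe.symm.toAlgHom.comp ι', ?_⟩
  have h1 : CommRingCat.ofHom (ιe.symm.toAlgHom.comp ι').toRingHom ≫
      CommRingCat.ofHom ι.toRingHom = CommRingCat.ofHom ι'.toRingHom := by
    ext x
    exact ιe.apply_symm_apply (ι' x)
  rw [← hι, Category.assoc, ← Spec.map_comp, h1, hι']

/-- every point of an étale `k`-scheme is the spectrum of a finite separable extension, open. -/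
theorem exists_open_point {Y : Scheme.{u}} (gY : Y ⟶ Spec (CommRingCat.of k)) [Etale gY] (y : Y) :
    ∃ (L' : Type u) (_ : Field L') (_ : Algebra k L') (_ : Module.Finite k L')
      (_ : Algebra.IsSeparable k L') (j : Spec (CommRingCat.of L') ⟶ Y),
      IsOpenImmersion j ∧ j ≫ gY = Spec.map (CommRingCat.ofHom (algebraMap k L')) ∧
        y ∈ Set.range j := by
  obtain ⟨B, j₀, hjo, z, hz⟩ : ∃ (B : CommRingCat.{u}) (j₀ : Spec B ⟶ Y), IsOpenImmersion j₀ ∧
      ∃ z : Spec B, j₀ z = y := by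
    obtain ⟨z, hz⟩ := Y.affineOpenCover.covers y
    exact ⟨_, Y.affineOpenCover.f _, inferInstance, z, hz⟩
  obtain ⟨φ, hφ⟩ : ∃ φ : CommRingCat.of k ⟶ B, Spec.map φ = j₀ ≫ gY :=
    ⟨Spec.preimage _, Spec.map_preimage _⟩
  have het : φ.hom.Etale := by
    have : Etale (Spec.map φ) := by rw [hφ]; infer_instance
    exact (HasRingHomProperty.Spec_iff (P := @Etale)).mp this
  letI : Algebra k B := φ.hom.toAlgebra
  haveI : Algebra.Etale k B := het
  obtain ⟨I, _, A, _, _, e, hA⟩ :=
    (Algebra.Etale.iff_exists_algEquiv_prod (K := k) (A := B)).mp inferInstance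
  obtain ⟨i, w, hw⟩ := exists_mem_range_eval A
    (Spec.map (CommRingCat.ofHom e.symm.toAlgHom.toRingHom) z)
  haveI := (hA i).1
  haveI := (hA i).2
  haveI := isOpenImmersion_eval A i
  have hee : CommRingCat.ofHom e.symm.toAlgHom.toRingHom ≫ CommRingCat.ofHom e.toAlgHom.toRingHom =
      𝟙 _ := by
    apply CommRingCat.hom_ext
    apply RingHom.ext
    intro x
    exact e.apply_symm_apply x
  have hee' : CommRingCat.ofHom e.toAlgHom.toRingHom ≫ CommRingCat.ofHom e.symm.toAlgHom.toRingHom =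
      𝟙 _ := by
    apply CommRingCat.hom_ext
    apply RingHom.ext
    intro x
    exact e.symm_apply_apply x
  haveI : IsIso (Spec.map (CommRingCat.ofHom e.toAlgHom.toRingHom)) :=
    ⟨Spec.map (CommRingCat.ofHom e.symm.toAlgHom.toRingHom),
      by rw [← Spec.map_comp, hee, Spec.map_id], by rw [← Spec.map_comp, hee', Spec.map_id]⟩
  refine ⟨A i, inferInstance, inferInstance, inferInstance, inferInstance,
    Spec.map (CommRingCat.ofHom (Pi.evalRingHom A i)) ≫
      Spec.map (CommRingCat.ofHom e.toAlgHom.toRingHom) ≫ j₀, inferInstance, ?_, ?_⟩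
  · rw [Category.assoc, Category.assoc, ← hφ, ← Spec.map_comp, ← Spec.map_comp]
    congr 1
    ext r
    show Pi.evalRingHom A i (e (algebraMap k B r)) = algebraMap k (A i) r
    rw [e.commutes]
    rfl
  · refine ⟨w, ?_⟩
    have h1 : (Spec.map (CommRingCat.ofHom e.toAlgHom.toRingHom))
        ((Spec.map (CommRingCat.ofHom e.symm.toAlgHom.toRingHom)) z) = z := by
      rw [← Scheme.Hom.comp_apply, ← Spec.map_comp, hee', Spec.map_id]
      rfl
    show j₀ ((Spec.map (CommRingCat.ofHom e.toAlgHom.toRingHom))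
      ((Spec.map (CommRingCat.ofHom (Pi.evalRingHom A i))) w)) = y
    rw [hw, h1, hz]

theorem exists_factor_point [ConnectedSpace C] {Y : Scheme.{u}}
    (gY : Y ⟶ Spec (CommRingCat.of k)) [Etale gY] (h : C ⟶ Y) (hh : h ≫ gY = fC) :
    ∃ (p' : SepPt C fC) (j : Spec (CommRingCat.of p'.L) ⟶ Y),
      j ≫ gY = Spec.map (CommRingCat.ofHom (algebraMap k p'.L)) ∧ p'.s ≫ j = h := by
  obtain ⟨x₀⟩ : Nonempty C := inferInstance
  obtain ⟨L', _, _, _, _, j, hjo, hj, w, hw⟩ := exists_open_point gY (h x₀)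
  have hsingle : ∀ (y : Y), IsOpen ({y} : Set Y) := by
    intro y
    obtain ⟨L'', _, _, _, _, j', hjo', -, w', hw'⟩ := exists_open_point gY y
    have : Set.range j' = {y} := by
      apply Set.Subset.antisymm
      · rintro _ ⟨v, rfl⟩
        rw [Subsingleton.elim v w', hw']
        exact rfl
      · rintro _ rfl
        exact ⟨w', hw'⟩
    rw [← this]
    exact j'.isOpenEmbedding.isOpen_range
  have hrj : Set.range j = {h x₀} := by
    apply Set.Subset.antisymm
    · rintro _ ⟨v, rfl⟩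
      rw [Subsingleton.elim v w, hw]
      exact rfl
    · rintro _ rfl
      exact ⟨w, hw⟩
  have hclopen : IsClopen (h ⁻¹' {h x₀}) := by
    refine ⟨?_, (hsingle _).preimage h.continuous⟩
    rw [← isOpen_compl_iff]
    have : (h ⁻¹' {h x₀})ᶜ = h ⁻¹' (⋃ y ∈ {y : Y | y ≠ h x₀}, {y}) := by
      ext x
      simp
    rw [this]
    exact (isOpen_biUnion fun y _ => hsingle y).preimage h.continuous
  have huniv := hclopen.eq_univ ⟨x₀, rfl⟩
  have hrange : Set.range h ⊆ Set.range j := by
    rintro _ ⟨x, rfl⟩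
    rw [hrj]
    have : x ∈ h ⁻¹' {h x₀} := huniv ▸ Set.mem_univ x
    exact this
  refine ⟨⟨L', IsOpenImmersion.lift j h hrange, ?_⟩, j, hj, IsOpenImmersion.lift_fac _ _ _⟩
  rw [← hj, ← Category.assoc, IsOpenImmersion.lift_fac, hh]

/-- the universal morphism from a connected scheme to the spectrum of a finite separable
extension. -/
theorem exists_universal (fC : C ⟶ Spec (CommRingCat.of k)) [LocallyOfFiniteType fC]
    [ConnectedSpace C] :
    ∃ p : SepPt C fC, ∀ (Y : Scheme.{u}) (gY : Y ⟶ Spec (CommRingCat.of k)) (h : C ⟶ Y),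
      Etale gY → h ≫ gY = fC →
        ∃ t : Spec (CommRingCat.of p.L) ⟶ Y,
          t ≫ gY = Spec.map (CommRingCat.ofHom (algebraMap k p.L)) ∧ p.s ≫ t = h := by
  obtain ⟨p, hp⟩ := exists_max fC
  refine ⟨p, fun Y gY h hg hh => ?_⟩
  haveI := hg
  obtain ⟨p', j, hj, hj'⟩ := exists_factor_point gY h hh
  obtain ⟨τ, hτ⟩ := exists_hom_of_max p hp p'
  refine ⟨Spec.map (CommRingCat.ofHom τ.toRingHom) ≫ j, ?_, ?_⟩
  · rw [Category.assoc, hj, ← Spec.map_comp]
    congr 1
    ext r
    exact τ.commutes r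
  · rw [← Category.assoc, hτ, hj']

end Groth.Agent.H8.Pi0
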