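import Groth.Agent.Lib.Helper8.Pi0.Top
import Groth.Agent.Lib.Helper8.Pi0.Comp

/-!
# The scheme of connected components of a scheme locally of finite type over a field (helper8)
-/

set_option autoImplicit false
set_option linter.style.haveILetI false
universe u
open CategoryTheory CategoryTheory.Limits AlgebraicGeometry Topology TopologicalSpace

namespace Groth.Agent.H8.Pi0

theorem subsingleton_spec_field (L : Type u) [Field L] :
    Subsingleton ↥(Spec (CommRingCat.of L)) :=
  inferInstanceAs (Subsingleton (PrimeSpectrum L))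

theorem main (k : Type u) [Field k] (X : Scheme.{u}) (f : X ⟶ Spec (CommRingCat.of k))
    [LocallyOfFiniteType f] :
    ∃ (P : Scheme.{u}) (g : P ⟶ Spec (CommRingCat.of k)) (q : X ⟶ P), Etale g ∧ q ≫ g = f ∧
      (∀ (Y : Scheme.{u}) (gY : Y ⟶ Spec (CommRingCat.of k)) (h : X ⟶ Y), Etale gY → h ≫ gY = f →
        ∃! t : P ⟶ Y, t ≫ gY = g ∧ q ≫ t = h) ∧
      Flat q ∧ Surjective q ∧
      ∀ x : ↥X, (fun x' : ↥X => q x') ⁻¹' {q x} = connectedComponent x := by
  haveI : IsLocallyNoetherian X := LocallyOfFiniteType.isLocallyNoetherian f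
  haveI : LocallyConnectedSpace X := locallyConnectedSpace_of_isLocallyNoetherian X
  have hopen : ∀ c : _root_.ConnectedComponents X,
      IsOpen ((_root_.ConnectedComponents.mk : X → _root_.ConnectedComponents X) ⁻¹' {c}) := fun c =>
    (isOpen_discrete {c}).preimage _root_.ConnectedComponents.continuous_coe
  obtain ⟨U, hU⟩ : ∃ U : _root_.ConnectedComponents X → X.Opens,
      ∀ c x, x ∈ U c ↔ _root_.ConnectedComponents.mk x = c :=
    ⟨fun c => ⟨_root_.ConnectedComponents.mk ⁻¹' {c}, hopen c⟩, fun c x => Iff.rfl⟩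
  have hcov : IsOpenCover U := by
    show iSup U = ⊤
    rw [eq_top_iff]
    intro x _
    exact TopologicalSpace.Opens.mem_iSup.mpr ⟨_root_.ConnectedComponents.mk x, (hU _ _).mpr rfl⟩
  obtain ⟨𝒰, h𝒰⟩ : ∃ 𝒰 : X.OpenCover, 𝒰 = X.openCoverOfIsOpenCover U hcov := ⟨_, rfl⟩
  have hconn : ∀ c : _root_.ConnectedComponents X, ConnectedSpace ↥((U c : X.Opens) : Scheme.{u}) := by
    intro c
    obtain ⟨x, rfl⟩ := _root_.ConnectedComponents.surjective_coe c
    have hset : ((U (_root_.ConnectedComponents.mk x) : X.Opens) : Set X) = connectedComponent x := by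
      ext y
      rw [SetLike.mem_coe, hU, _root_.ConnectedComponents.coe_eq_coe']
    have h1 : _root_.IsConnected ((U (_root_.ConnectedComponents.mk x) : X.Opens) : Set X) := by
      rw [hset]; exact isConnected_connectedComponent
    exact isConnected_iff_connectedSpace.mp h1
  have hex : ∀ c : _root_.ConnectedComponents X, ∃ p : SepPt ((U c : X.Opens) : Scheme.{u}) ((U c).ι ≫ f),
      ∀ (Y : Scheme.{u}) (gY : Y ⟶ Spec (CommRingCat.of k)) (h : ((U c : X.Opens) : Scheme.{u}) ⟶ Y),
        Etale gY → h ≫ gY = (U c).ι ≫ f →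
          ∃ t : Spec (CommRingCat.of p.L) ⟶ Y,
            t ≫ gY = Spec.map (CommRingCat.ofHom (algebraMap k p.L)) ∧ p.s ≫ t = h := by
    intro c
    haveI := hconn c
    exact exists_universal ((U c).ι ≫ f)
  choose p hp using hex
  obtain ⟨F, hF⟩ : ∃ F : _root_.ConnectedComponents X → Scheme.{u},
      F = fun c => Spec (CommRingCat.of (p c).L) := ⟨_, rfl⟩
  -- points of the components
  have hFsub : ∀ c, Subsingleton ↥(Spec (CommRingCat.of (p c).L)) := fun c =>
    subsingleton_spec_field _
  have compat : ∀ c c' : _root_.ConnectedComponents X,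
      pullback.fst ((U c).ι) ((U c').ι) ≫ (p c).s ≫
        Sigma.ι (fun c => Spec (CommRingCat.of (p c).L)) c =
      pullback.snd ((U c).ι) ((U c').ι) ≫ (p c').s ≫
        Sigma.ι (fun c => Spec (CommRingCat.of (p c).L)) c' := by
    intro c c'
    by_cases hcc : c = c'
    · subst hcc
      have : pullback.fst ((U c).ι) ((U c).ι) = pullback.snd ((U c).ι) ((U c).ι) := by
        rw [← cancel_mono ((U c).ι)]
        exact pullback.condition
      rw [this]
    · haveI : IsEmpty ↥(pullback ((U c).ι) ((U c').ι)) := by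
        refine ⟨fun z => hcc ?_⟩
        have h1 := congrArg (fun t : pullback ((U c).ι) ((U c').ι) ⟶ X => t z)
          (pullback.condition (f := (U c).ι) (g := (U c').ι))
        simp only [Scheme.Hom.comp_apply, Scheme.Opens.ι_apply] at h1
        have h2 := (hU c _).mp (pullback.fst ((U c).ι) ((U c').ι) z).2
        have h3 := (hU c' _).mp (pullback.snd ((U c).ι) ((U c').ι) z).2
        exact h2.symm.trans ((congrArg _root_.ConnectedComponents.mk h1).trans h3)
      exact (isInitialOfIsEmpty).hom_ext _ _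
  subst h𝒰
  obtain ⟨q, hq⟩ : ∃ q : X ⟶ ∐ (fun c => Spec (CommRingCat.of (p c).L)),
      ∀ c, (U c).ι ≫ q = (p c).s ≫ Sigma.ι (fun c => Spec (CommRingCat.of (p c).L)) c :=
    ⟨(X.openCoverOfIsOpenCover U hcov).glueMorphisms
      (fun c => (p c).s ≫ Sigma.ι (fun c => Spec (CommRingCat.of (p c).L)) c) compat,
      fun c => Scheme.Cover.ι_glueMorphisms (X.openCoverOfIsOpenCover U hcov) _ compat c⟩
  -- value of q at a point
  have hqpt : ∀ x : X, ∃ w, q x =
      Sigma.ι (fun c => Spec (CommRingCat.of (p c).L)) (_root_.ConnectedComponents.mk x) w := by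
    intro x
    have hx : x ∈ U (_root_.ConnectedComponents.mk x) := (hU _ _).mpr rfl
    refine ⟨(p _).s ⟨x, hx⟩, ?_⟩
    have h1 := congrArg (fun t : ((U (_root_.ConnectedComponents.mk x) : X.Opens) : Scheme.{u}) ⟶ _ =>
      t ⟨x, hx⟩) (hq (_root_.ConnectedComponents.mk x))
    simp only [Scheme.Hom.comp_apply, Scheme.Opens.ι_apply] at h1
    exact h1
  have hflat : Flat q := by
    rw [IsZariskiLocalAtSource.iff_of_openCover (P := @Flat) (X.openCoverOfIsOpenCover U hcov)]
    intro c
    show Flat ((U c).ι ≫ q)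
    rw [hq c]
    haveI := hFsub c
    infer_instance
  have hsurj : Surjective q := by
    refine ⟨fun z => ?_⟩
    obtain ⟨⟨c, w⟩, rfl⟩ := (sigmaMk (fun c => Spec (CommRingCat.of (p c).L))).surjective z
    rw [sigmaMk_mk]
    obtain ⟨x, rfl⟩ := _root_.ConnectedComponents.surjective_coe c
    obtain ⟨w', hw'⟩ := hqpt x
    refine ⟨x, ?_⟩
    rw [hw']
    haveI := hFsub (_root_.ConnectedComponents.mk x)
    rw [Subsingleton.elim w' w]
  refine ⟨∐ (fun c => Spec (CommRingCat.of (p c).L)),
    Sigma.desc (fun c => Spec.map (CommRingCat.ofHom (algebraMap k (p c).L))), q, ?_, ?_, ?_,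
    hflat, hsurj, ?_⟩
  · refine IsZariskiLocalAtSource.sigmaDesc (P := @Etale) fun c => ?_
    rw [HasRingHomProperty.Spec_iff (P := @Etale)]
    show (algebraMap k (p c).L).Etale
    rw [RingHom.etale_algebraMap]
    exact etale_of_finite_sep _
  · refine Scheme.Cover.hom_ext (X.openCoverOfIsOpenCover U hcov) _ _ fun c => ?_
    show (U c).ι ≫ q ≫ _ = (U c).ι ≫ f
    rw [← Category.assoc, hq c, Category.assoc, Sigma.ι_desc, (p c).hs]
  · intro Y gY h hgY hh
    have hex' : ∀ c, ∃ t : Spec (CommRingCat.of (p c).L) ⟶ Y,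
        t ≫ gY = Spec.map (CommRingCat.ofHom (algebraMap k (p c).L)) ∧
          (p c).s ≫ t = (U c).ι ≫ h := fun c =>
      hp c Y gY ((U c).ι ≫ h) hgY (by rw [Category.assoc, hh])
    choose t ht using hex'
    haveI : Epi q := Flat.epi_of_flat_of_surjective q
    refine ⟨Sigma.desc t, ⟨?_, ?_⟩, ?_⟩
    · refine Sigma.hom_ext _ _ fun c => ?_
      rw [Sigma.ι_desc_assoc, (ht c).1, Sigma.ι_desc]
    · refine Scheme.Cover.hom_ext (X.openCoverOfIsOpenCover U hcov) _ _ fun c => ?_
      show (U c).ι ≫ q ≫ _ = (U c).ι ≫ h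
      rw [← Category.assoc, hq c, Category.assoc, Sigma.ι_desc, (ht c).2]
    · rintro t' ⟨-, ht'⟩
      rw [← cancel_epi q, ht']
      refine Scheme.Cover.hom_ext (X.openCoverOfIsOpenCover U hcov) _ _ fun c => ?_
      show (U c).ι ≫ h = (U c).ι ≫ q ≫ _
      rw [← Category.assoc, hq c, Category.assoc, Sigma.ι_desc, (ht c).2]
  · intro x
    ext x'
    simp only [Set.mem_preimage, Set.mem_singleton_iff]
    obtain ⟨w, hw⟩ := hqpt x
    obtain ⟨w', hw'⟩ := hqpt x'
    rw [hw, hw', sigmaι_eq_iff]
    constructor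
    · intro h
      have h1 : _root_.ConnectedComponents.mk x' = _root_.ConnectedComponents.mk x :=
        congrArg Sigma.fst h
      exact _root_.ConnectedComponents.coe_eq_coe'.mp h1
    · intro h
      have h1 : _root_.ConnectedComponents.mk x' = _root_.ConnectedComponents.mk x :=
        _root_.ConnectedComponents.coe_eq_coe'.mpr h
      haveI := hFsub (_root_.ConnectedComponents.mk x')
      exact Sigma.ext h1 (Subsingleton.helim
        (congrArg (fun c => ↥(Spec (CommRingCat.of (p c).L))) h1) w' w)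

end Groth.Agent.H8.Pi0
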