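import Mathlib

/-!
# Locally Noetherian schemes are locally connected (helper8)
-/

set_option autoImplicit false
universe u
open CategoryTheory CategoryTheory.Limits AlgebraicGeometry Topology TopologicalSpace

namespace Groth.Agent.H8.Pi0

/-- A space with finitely many irreducible components has finitely many connected components. -/
theorem finite_range_connectedComponent {X : Type*} [TopologicalSpace X]
    (h : (irreducibleComponents X).Finite) :
    (Set.range (connectedComponent : X → Set X)).Finite := by
  classical
  have hsub : Set.range (connectedComponent : X → Set X) ⊆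
      (fun Z : Set X => ⋃ x ∈ Z, connectedComponent x) '' irreducibleComponents X := by
    rintro _ ⟨x, rfl⟩
    refine ⟨irreducibleComponent x, irreducibleComponent_mem_irreducibleComponents x, ?_⟩
    apply Set.Subset.antisymm
    · intro y hy
      simp only [Set.mem_iUnion] at hy
      obtain ⟨z, hz, hy⟩ := hy
      have hpre : IsPreconnected (irreducibleComponent x) :=
        (isIrreducible_irreducibleComponent (x := x)).isPreirreducible.isPreconnected
      have hzx : z ∈ connectedComponent x :=
        hpre.subset_connectedComponent mem_irreducibleComponent hz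
      rw [connectedComponent_eq hzx]
      exact hy
    · intro y hy
      simp only [Set.mem_iUnion]
      exact ⟨x, mem_irreducibleComponent, hy⟩
  exact (h.image _).subset hsub

/-- In a space with finitely many irreducible components, connected components are open. -/
theorem isOpen_connectedComponent_of_finite {X : Type*} [TopologicalSpace X]
    (h : (irreducibleComponents X).Finite) (x : X) : IsOpen (connectedComponent x) := by
  classical
  have hfin := finite_range_connectedComponent h
  have hcompl : (connectedComponent x)ᶜ =
      ⋃ C ∈ Set.range (connectedComponent : X → Set X) \ {connectedComponent x}, C := by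
    ext y
    simp only [Set.mem_compl_iff, Set.mem_iUnion, Set.mem_sdiff, Set.mem_range,
      Set.mem_singleton_iff, exists_prop]
    constructor
    · intro hy
      refine ⟨connectedComponent y, ⟨⟨y, rfl⟩, fun heq => hy ?_⟩, mem_connectedComponent⟩
      rw [← heq]
      exact mem_connectedComponent
    · rintro ⟨_, ⟨⟨z, rfl⟩, hne⟩, hy⟩ hyx
      apply hne
      rw [connectedComponent_eq hy, connectedComponent_eq hyx]
  rw [← isClosed_compl_iff, hcompl]
  refine (hfin.subset Set.sdiff_subset).isClosed_biUnion ?_
  rintro _ ⟨⟨z, rfl⟩, -⟩
  exact isClosed_connectedComponent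

theorem locallyConnectedSpace_of_isLocallyNoetherian (X : Scheme.{u}) [IsLocallyNoetherian X] :
    LocallyConnectedSpace X := by
  rw [locallyConnectedSpace_iff_connected_subsets]
  intro x U hU
  obtain ⟨W, hW, hxW, hWU⟩ := TopologicalSpace.Opens.isBasis_iff_nbhd.mp
    X.isBasis_affineOpens (U := ⟨interior U, isOpen_interior⟩)
    (show x ∈ interior U from mem_interior_iff_mem_nhds.mpr hU)
  haveI : IsNoetherianRing Γ(X, W) := IsLocallyNoetherian.component_noetherian ⟨W, hW⟩
  haveI : NoetherianSpace (W : Set X) := noetherianSpace_of_isAffineOpen W hW
  have hop : IsOpen (connectedComponent (⟨x, hxW⟩ : (W : Set X))) :=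
    isOpen_connectedComponent_of_finite NoetherianSpace.finite_irreducibleComponents _
  refine ⟨Subtype.val '' connectedComponent (⟨x, hxW⟩ : (W : Set X)), ?_, ?_, ?_⟩
  · refine IsOpen.mem_nhds (W.isOpen.isOpenMap_subtype_val _ hop) ?_
    exact ⟨⟨x, hxW⟩, mem_connectedComponent, rfl⟩
  · exact isPreconnected_connectedComponent.image _ continuous_subtype_val.continuousOn
  · rintro _ ⟨y, -, rfl⟩
    exact interior_subset (hWU y.2)

end Groth.Agent.H8.Pi0
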